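import Groth.Agent.H78.FSchBridge.Sys
import Groth.Agent.H30.FSch.ComplPull
import Groth.Agent.H78.Proper.PushBound

/-!
# The direct image of the completion of a coherent module along a proper morphism
-/

set_option autoImplicit false
set_option linter.style.haveILetI false
set_option linter.unusedSectionVars false

noncomputable section

universe u

open CategoryTheory CategoryTheory.Limits AlgebraicGeometry TopologicalSpace Opposite
open Groth.Agent.H30 Groth.Agent.H30.RealLimSec Groth.Agent.Lib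
open Groth.Agent.H78.Formal.Sections (sIdeal)

namespace Groth.Agent.H78.FSchBridge.Push

variable {A : Type u} [CommRing A] {X Z : Scheme.{u}} [X.Over (Spec (CommRingCat.of A))]
  [Z.Over (Spec (CommRingCat.of A))] [IsLocallyNoetherian X] [IsLocallyNoetherian Z]
  {𝔛 ℨ : FSch.Sys.{u}} (φ : ℨ ⟶ 𝔛) (h𝔛 : 𝔛.IsLocNoethFormal) (hℨ : ℨ.IsLocNoethFormal)
  (g : Z ⟶ X) (p : ∀ n, 𝔛.X n ⟶ X) (hp : ∀ n, 𝔛.ι n ≫ p (n + 1) = p n)
  (q : ∀ n, ℨ.X n ⟶ Z) (hq : ∀ n, ℨ.ι n ≫ q (n + 1) = q n)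
  [∀ k, IsClosedImmersion (p k)] [∀ k, IsClosedImmersion (q k)]
  (hsq : ∀ k, q k ≫ g = (φ : FSch.Hom ℨ 𝔛).app k ≫ p k)

include hsq in
lemma pre_eq (U : X.Opens) :
    ComplSec.pre q (g ⁻¹ᵁ U) = (φ : FSch.Hom ℨ 𝔛).app 0 ⁻¹ᵁ ComplSec.pre p U :=
  FSch.sch_sq_preimage φ g q p hsq U

/-- The structure map of a morphism of formal systems on sections. -/
abbrev shφ (V : (𝔛.X 0).Opens) :
    Levels.A 𝔛 h𝔛.1 V →+* Levels.A ℨ hℨ.1 ((φ : FSch.Hom ℨ 𝔛).app 0 ⁻¹ᵁ V) :=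
  ((FSch.Hom.sharp φ hℨ.1 h𝔛.1).hom.app (op V)).hom

lemma proj_shφ (k : ℕ) (V : (𝔛.X 0).Opens) (a : Levels.A 𝔛 h𝔛.1 V) :
    Levels.proj ℨ hℨ.1 k _ (shφ φ h𝔛 hℨ V a) =
      ((φ : FSch.Hom ℨ 𝔛).app k).appLE (𝔛.lvU h𝔛.1 k V) _ (FSch.Hom.lvU_preimage φ hℨ.1 h𝔛.1 k V).ge
        (Levels.proj 𝔛 h𝔛.1 k V a) :=
  congrArg (fun ψ => ψ.hom.app (op V) a) (FSch.Hom.sharp_proj φ hℨ.1 h𝔛.1 k)

variable (G : Z.Modules)

set_option quotPrecheck false in
local notation "MM" => (Scheme.Modules.pushforward g).obj G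
set_option quotPrecheck false in
local notation "SS" => FSch.realLim ℨ hℨ.1 (ComplSec.pullSys q hq G).F (ComplSec.pullSys q hq G).toPush

/-- The completion of a section, on the preimage of an open of the base. -/
def eh (U : X.Opens) (m : Γ(G, g ⁻¹ᵁ U)) :
    sec hℨ.1 SS ((φ : FSch.Hom ℨ 𝔛).app 0 ⁻¹ᵁ ComplSec.pre p U) :=
  CohPres.resF hℨ.1 _ (pre_eq φ g p q hsq U).ge (ComplPull.ehat hℨ q hq G (g ⁻¹ᵁ U) m)

lemma π_eh (k : ℕ) (U : X.Opens) (m : Γ(G, g ⁻¹ᵁ U)) :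
    π hℨ.1 (ComplSec.pullSys q hq G).F (ComplSec.pullSys q hq G).toPush k _
        (eh φ hℨ g p q hq hsq G U m) =
      ((ComplSec.pullSys q hq G).F k).presheaf.map
        (homOfLE (CohPres.lvU_mono hℨ.1 k (pre_eq φ g p q hsq U).ge)).op
        (ComplSec.σ hℨ.1 q hq G k (g ⁻¹ᵁ U) m) := by
  refine (CohPres.π_res hℨ.1 _ _ k _ _).trans ?_
  rw [ComplPull.π_ehat]

lemma eh_add (U : X.Opens) (m m' : Γ(G, g ⁻¹ᵁ U)) :
    eh φ hℨ g p q hq hsq G U (m + m') = eh φ hℨ g p q hq hsq G U m + eh φ hℨ g p q hq hsq G U m' := by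
  rw [eh, ComplPull.ehat_add, map_add]
  rfl

lemma eh_res {U U' : X.Opens} (e : U' ≤ U) (m : Γ(G, g ⁻¹ᵁ U)) :
    CohPres.resF hℨ.1 _ (((φ : FSch.Hom ℨ 𝔛).app 0).preimage_mono ((p 0).preimage_mono e))
        (eh φ hℨ g p q hq hsq G U m) =
      eh φ hℨ g p q hq hsq G U' (G.presheaf.map (homOfLE (g.preimage_mono e)).op m) := by
  rw [eh, eh, ← ComplPull.ehat_res hℨ q hq G (g.preimage_mono e) m]
  exact (LevelPull.resF_resF hℨ.1 _ _ _ _).trans (LevelPull.resF_resF hℨ.1 _ _ _ _).symm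

lemma eh_smul (U : X.Opens) (r : Γ(X, U)) (m : Γ(G, g ⁻¹ᵁ U)) :
    eh φ hℨ g p q hq hsq G U (g.app U r • m) =
      shφ φ h𝔛 hℨ (ComplSec.pre p U) (ComplPull.shA h𝔛 p hp U r) • eh φ hℨ g p q hq hsq G U m := by
  refine RealLimSec.ext_of_π hℨ.1 _ _ _ _ fun k => ?_
  rw [map_smul, lev_smul, π_eh, π_eh]
  refine (congrArg _ (ComplPull.σ_smul hℨ q hq G k (g ⁻¹ᵁ U) (g.app U r) m)).trans ?_
  refine (Scheme.Modules.map_smul _ _ _ _).trans ?_
  congr 1
  rw [proj_shφ, ComplPull.proj_shA]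
  have e₁ : ℨ.lvU hℨ.1 k ((φ : FSch.Hom ℨ 𝔛).app 0 ⁻¹ᵁ ComplSec.pre p U) ≤ (q k ≫ g) ⁻¹ᵁ U :=
    (CohPres.lvU_mono hℨ.1 k (pre_eq φ g p q hsq U).ge).trans (ComplSec.lvU_pre hℨ.1 q hq k _).le
  have l : ((ℨ.X k).presheaf.map (homOfLE (CohPres.lvU_mono hℨ.1 k (pre_eq φ g p q hsq U).ge)).op)
      ((q k).appLE (g ⁻¹ᵁ U) _ (ComplSec.lvU_pre hℨ.1 q hq k (g ⁻¹ᵁ U)).le (g.app U r)) =
      (q k ≫ g).appLE U _ e₁ r := by
    rw [Scheme.Hom.app_eq_appLE]
    have := FSch.appLE_comp_appLE_of_eq (q k) g (q k ≫ g) rfl U (g ⁻¹ᵁ U) _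
      (e₁ := le_rfl) (e₂ := (ComplSec.lvU_pre hℨ.1 q hq k (g ⁻¹ᵁ U)).le)
      (e₃ := (ComplSec.lvU_pre hℨ.1 q hq k (g ⁻¹ᵁ U)).le)
    refine (congrArg _ (ConcreteCategory.congr_hom this r)).trans ?_
    exact ConcreteCategory.congr_hom (Scheme.Hom.appLE_map (q k ≫ g) _ _) r
  refine l.trans ?_
  refine Eq.trans ?_ (ConcreteCategory.congr_hom (FSch.appLE_comp_appLE_of_eq
    ((φ : FSch.Hom ℨ 𝔛).app k) (p k) (q k ≫ g) (hsq k).symm _ _ _
    (e₁ := (ComplSec.lvU_pre h𝔛.1 p hp k U).le)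
    (e₂ := (FSch.Hom.lvU_preimage φ hℨ.1 h𝔛.1 k (ComplSec.pre p U)).ge) (e₃ := e₁)) r).symm
  rfl

/-- The direct image maps to the direct image of the completion. -/
def τ' : (MM : ModSite.Mod X.sheaf) ⟶
    (FSch.toSchemeMor 𝔛 h𝔛.1 p hp).push.obj ((FSch.pushF φ hℨ.1 h𝔛.1).obj SS) :=
  ⟨PresheafOfModules.homMk
    { app := fun U => AddCommGrpCat.ofHom
        (AddMonoidHom.mk' (fun m => eh φ hℨ g p q hq hsq G U.unop m) (eh_add φ hℨ g p q hq hsq G U.unop))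
      naturality := fun U U' i => by
        refine ConcreteCategory.hom_ext _ _ fun m => ?_
        exact (eh_res φ hℨ g p q hq hsq G (leOfHom i.unop) m).symm }
    fun U r m => eh_smul φ h𝔛 hℨ g p hp q hq hsq G U.unop r m⟩

variable [IsProper g] (hg : g ≫ (X ↘ Spec (CommRingCat.of A)) = Z ↘ Spec (CommRingCat.of A))
  (J : Ideal A) (hIX : ∀ k (U : X.affineOpens), (p k).ker.ideal U = sIdeal J U.1 ^ (k + 1))
  (hIZ : ∀ k (U : Z.affineOpens), (q k).ker.ideal U = sIdeal J U.1 ^ (k + 1))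

set_option maxHeartbeats 800000 in
include hg hIX hIZ hsq in
/-- The direct image of the completion is the completion of the direct image. -/
theorem exists_iso (hG : Coh.IsCoh G) :
    Nonempty ((ComplSec.pullSys p hp MM).realMod h𝔛.1 ≅ (FSch.pushF φ hℨ.1 h𝔛.1).obj SS) := by
  classical
  have hM : Coh.IsCoh MM := Cyc.PP.Push.isCoh_push g hG
  haveI := hM.1
  haveI := hG.1
  have hcX := ComplMonoEpi.isCoh_pullSys p hp hM
  haveI := ComplPull.isIso_γ h𝔛 p hp MM hM hcX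
  let τ₀ := ((FSch.toSchemeMor 𝔛 h𝔛.1 p hp).adj.homEquiv _ _).symm (τ' φ h𝔛 hℨ g p hp q hq hsq G)
  let γi := inv (ComplPull.γ h𝔛 p hp MM)
  let Θ : FSch.realLim 𝔛 h𝔛.1 (ComplSec.pullSys p hp MM).F (ComplSec.pullSys p hp MM).toPush ⟶ (FSch.pushF φ hℨ.1 h𝔛.1).obj SS :=
    γi ≫ τ₀
  have hid : ∀ (F : FSch.ModF 𝔛 h𝔛.1) (V : (𝔛.X 0).Opens) (x : sec h𝔛.1 F V),
      CohPres.resF h𝔛.1 F (le_refl V) x = x := fun F V x =>
    (congrArg (fun g => F.val.map g x) (Subsingleton.elim (homOfLE (le_refl V)).op (𝟙 _))).trans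
      (congrArg (fun φ => φ.hom x) (F.val.map_id (op V)))
  let eX : ∀ U : X.Opens, Γ(MM, U) → sec h𝔛.1 (FSch.realLim 𝔛 h𝔛.1 (ComplSec.pullSys p hp MM).F (ComplSec.pullSys p hp MM).toPush) (ComplSec.pre p U) :=
    fun U m => ComplPull.ehat h𝔛 p hp MM U m
  have hπe : ∀ k (U : X.Opens) (m : Γ(MM, U)),
      π h𝔛.1 (ComplSec.pullSys p hp MM).F (ComplSec.pullSys p hp MM).toPush k (ComplSec.pre p U) (eX U m) =
        ComplSec.σ h𝔛.1 p hp MM k U m := fun k U m => ComplPull.π_ehat h𝔛 p hp MM k U m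
  -- the value on completed sections
  have hΘe : ∀ (U : X.Opens) (m : Γ(MM, U)),
      secMap h𝔛.1 Θ (ComplSec.pre p U) (eX U m) = eh φ hℨ g p q hq hsq G U m := by
    intro U m
    have h1 : eX U m =
        secMap h𝔛.1 (ComplPull.γ h𝔛 p hp MM) (ComplSec.pre p U) (ComplPull.plF h𝔛 p hp MM le_rfl m) :=
      ((ComplPull.γ_plF h𝔛 p hp MM le_rfl m).trans (hid _ _ _)).symm
    have hγΘ : ComplPull.γ h𝔛 p hp MM ≫ Θ = τ₀ := IsIso.hom_inv_id_assoc (ComplPull.γ h𝔛 p hp MM) τ₀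
    have h2 : ∀ x, secMap h𝔛.1 Θ (ComplSec.pre p U) (secMap h𝔛.1 (ComplPull.γ h𝔛 p hp MM) (ComplSec.pre p U) x) =
        secMap h𝔛.1 τ₀ (ComplSec.pre p U) x := fun x =>
      congrArg (fun χ => secMap h𝔛.1 χ (ComplSec.pre p U) x) hγΘ
    rw [h1, h2]
    refine (PresheafOfModules.naturality_apply τ₀.val (homOfLE (le_refl (ComplSec.pre p U))).op _).trans ?_
    refine Eq.trans (congrArg (CohPres.resF h𝔛.1 ((FSch.pushF φ hℨ.1 h𝔛.1).obj SS) (le_refl (ComplSec.pre p U))) ?_) (hid _ _ _)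
    exact congrArg (fun w => w.val.app (op U) m)
      ((((FSch.toSchemeMor 𝔛 h𝔛.1 p hp).adj.homEquiv_unit _ _ τ₀).symm).trans (Equiv.apply_symm_apply _ _))
  -- levels of completed sections
  let ζ := fun k => HLim.ζ hℨ q hq J hIZ G hG.1 k
  have hζb : ∀ k (W : Z.Opens), Function.Bijective ((ζ k).hom.app (op W)) := fun k W =>
    haveI := HLim.isIso_ζ hℨ q hq J hIZ G hG.1 k
    haveI : IsIso ((sheafToPresheaf _ _).map (ζ k)) := inferInstance
    haveI : IsIso ((ζ k).hom.app (op W)) :=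
      inferInstanceAs (IsIso (((sheafToPresheaf _ _).map (ζ k)).app (op W)))
    ConcreteCategory.bijective_of_isIso _
  have hζσ : ∀ k (W : Z.Opens) (m : Γ(G, W)),
      (ζ k).hom.app (op W) ((Formal.Elem.cπ J G k).app W m) = ComplSec.σ hℨ.1 q hq G k W m := fun k W m =>
    congrArg (((ComplSec.pullSys q hq G).F k).presheaf.map
      (homOfLE (ComplSec.lvU_pre hℨ.1 q hq k W).le).op) (HLim.dd_π q J hIZ G hG.1 k W m)
  have hres : ∀ k (U : X.Opens), Function.Bijective (((ComplSec.pullSys q hq G).F k).presheaf.map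
      (homOfLE (CohPres.lvU_mono hℨ.1 k (pre_eq φ g p q hsq U).ge)).op) := fun k U =>
    CohSys.restrict_bijective _ _ (CohPres.lvU_mono hℨ.1 k (pre_eq φ g p q hsq U).le)
  have hzero : ∀ k (U : X.Opens) (m : Γ(G, g ⁻¹ᵁ U)),
      π hℨ.1 (ComplSec.pullSys q hq G).F (ComplSec.pullSys q hq G).toPush k _
          (eh φ hℨ g p q hq hsq G U m) = 0 ↔ (Formal.Elem.cπ J G k).app (g ⁻¹ᵁ U) m = 0 := by
    intro k U m
    rw [π_eh, ← hζσ]
    exact ⟨fun h => (hζb k _).1 (((hres k U).1 (h.trans (map_zero _).symm)).trans (map_zero _).symm),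
      fun h => by rw [h]; exact (congrArg _ (map_zero _)).trans (map_zero _)⟩
  -- continuity
  have hcont : ∀ k (U : X.Opens), IsAffineOpen U →
      ∀ x : sec h𝔛.1 (FSch.realLim 𝔛 h𝔛.1 (ComplSec.pullSys p hp MM).F (ComplSec.pullSys p hp MM).toPush) (ComplSec.pre p U),
      π h𝔛.1 (ComplSec.pullSys p hp MM).F (ComplSec.pullSys p hp MM).toPush k (ComplSec.pre p U) x = 0 →
      π hℨ.1 (ComplSec.pullSys q hq G).F (ComplSec.pullSys q hq G).toPush k _
          (secMap h𝔛.1 Θ (ComplSec.pre p U) x) = 0 := by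
    intro k U hU x hx
    have hV := ComplSec.isAffineOpen_pre p hU
    have hx' : x ∈ Levels.J (h := h𝔛.1) (ComplSec.pre p U) ^ (k + 1) • (⊤ : Submodule (Levels.A 𝔛 h𝔛.1 (ComplSec.pre p U))
        (sec h𝔛.1 (FSch.realLim 𝔛 h𝔛.1 (ComplSec.pullSys p hp MM).F (ComplSec.pullSys p hp MM).toPush) (ComplSec.pre p U))) :=
      ((CohSys.main h𝔛 (ComplSec.pullSys p hp MM) hcX hV).2.2 k).2.le (LinearMap.mem_ker.2 hx)
    refine Submodule.smul_induction_on hx' (fun a ha w _ => ?_) fun a b ha hb => ?_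
    · have ha' : Levels.proj 𝔛 h𝔛.1 k (ComplSec.pre p U) a = 0 :=
        RingHom.mem_ker.1 (((Levels.adic h𝔛 hV).2.1 k).2.ge ha)
      refine (congrArg (π hℨ.1 _ _ k _) ((secMap h𝔛.1 Θ (ComplSec.pre p U)).map_smul a w)).trans ?_
      refine ((π hℨ.1 (ComplSec.pullSys q hq G).F (ComplSec.pullSys q hq G).toPush k _).map_smul
        (shφ φ h𝔛 hℨ (ComplSec.pre p U) a) (secMap h𝔛.1 Θ (ComplSec.pre p U) w)).trans ?_
      rw [lev_smul, proj_shφ, ha', map_zero, zero_smul]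
      rfl
    · exact (congrArg _ (map_add _ a b)).trans ((map_add _ _ _).trans (by rw [ha, hb, add_zero]))
  have happrox : ∀ k (U : X.Opens), IsAffineOpen U →
      ∀ x : sec h𝔛.1 (FSch.realLim 𝔛 h𝔛.1 (ComplSec.pullSys p hp MM).F (ComplSec.pullSys p hp MM).toPush) (ComplSec.pre p U), ∃ m : Γ(MM, U),
      π h𝔛.1 (ComplSec.pullSys p hp MM).F (ComplSec.pullSys p hp MM).toPush k (ComplSec.pre p U)
        (x - eX U m) = 0 := by
    intro k U hU x
    obtain ⟨m, hm⟩ := ComplSec.σ_surjective h𝔛.1 p hp MM k hU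
      (π h𝔛.1 (ComplSec.pullSys p hp MM).F (ComplSec.pullSys p hp MM).toPush k (ComplSec.pre p U) x)
    exact ⟨m, by rw [map_sub, hπe, hm, sub_self]⟩
  have hbij : ∀ U : X.affineOpens, Function.Bijective (secMap h𝔛.1 Θ (ComplSec.pre p U.1)) := by
    intro U
    obtain ⟨c, hc⟩ := Proper.PushBound.exists_shift_affine hg J hG U.2
    refine ⟨(injective_iff_map_eq_zero _).2 fun x hx => ?_, fun y => ?_⟩
    · refine RealLimSec.ext_of_π h𝔛.1 _ _ _ _ fun k => ?_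
      obtain ⟨m, hm⟩ := happrox (k + c) U.1 U.2 x
      have h1 := hcont (k + c) U.1 U.2 _ hm
      rw [map_sub, hx, hΘe] at h1
      have h2 : π hℨ.1 (ComplSec.pullSys q hq G).F (ComplSec.pullSys q hq G).toPush (k + c) _
          (eh φ hℨ g p q hq hsq G U.1 m) = 0 := by
        have := (map_neg _ _).symm.trans ((congrArg _ (zero_sub _).symm).trans h1)
        exact neg_eq_zero.1 this
      have h3 := (hc k).1 m ((hzero (k + c) U.1 m).1 h2)
      have h4 : ComplSec.σ h𝔛.1 p hp MM k U.1 m = 0 := by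
        rw [ComplSec.σ_eq_zero_iff h𝔛.1 p hp MM k U.2, hIX k U]
        exact h3
      have h5 : ∀ l, l ≤ k + c → π h𝔛.1 (ComplSec.pullSys p hp MM).F (ComplSec.pullSys p hp MM).toPush l
          (ComplSec.pre p U.1) (x - eX U.1 m) = 0 := by
        intro l hl
        refine Nat.decreasingInduction' (P := fun l => π h𝔛.1 (ComplSec.pullSys p hp MM).F
          (ComplSec.pullSys p hp MM).toPush l (ComplSec.pre p U.1) (x - eX U.1 m) = 0)
          (fun i _ _ hi => ?_) hl hm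
        rw [← LinearMap.congr_fun (tr_π h𝔛.1 (ComplSec.pullSys p hp MM).F
          (ComplSec.pullSys p hp MM).toPush i (ComplSec.pre p U.1)) _, LinearMap.comp_apply, hi, map_zero]
      have h6 := h5 k (Nat.le_add_right k c)
      rw [map_sub, hπe, h4, sub_zero] at h6
      rw [h6, map_zero]
    · -- approximations on the levels
      have hu : ∀ k, ∃ u : Γ((_root_.Formal.completion J G).obj (op k), g ⁻¹ᵁ U.1),
          ((ComplSec.pullSys q hq G).F k).presheaf.map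
              (homOfLE (CohPres.lvU_mono hℨ.1 k (pre_eq φ g p q hsq U.1).ge)).op ((ζ k).hom.app (op (g ⁻¹ᵁ U.1)) u) =
            π hℨ.1 (ComplSec.pullSys q hq G).F (ComplSec.pullSys q hq G).toPush k _ y := fun k => by
        obtain ⟨w, hw⟩ := (hres k U.1).2 (π hℨ.1 (ComplSec.pullSys q hq G).F (ComplSec.pullSys q hq G).toPush k _ y)
        obtain ⟨u, hu⟩ := (hζb k _).2 w
        exact ⟨u, by rw [hu]; exact hw⟩
      choose u hu using hu
      have hustep : ∀ k, ((_root_.Formal.completion J G).map (homOfLE (Nat.le_succ k)).op).app (g ⁻¹ᵁ U.1) (u (k + 1)) =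
          u k := fun k => by
        refine (hζb k _).1 ((hres k U.1).1 ?_)
        rw [hu k]
        have h1 : (ζ k).hom.app (op (g ⁻¹ᵁ U.1))
            (((_root_.Formal.completion J G).map (homOfLE (Nat.le_succ k)).op).app (g ⁻¹ᵁ U.1) (u (k + 1))) =
            tr hℨ.1 (ComplSec.pullSys q hq G).F (ComplSec.pullSys q hq G).toPush k (ComplSec.pre q (g ⁻¹ᵁ U.1))
              ((ζ (k + 1)).hom.app (op (g ⁻¹ᵁ U.1)) (u (k + 1))) := by
          refine (congrArg (fun χ => χ.hom.app (op (g ⁻¹ᵁ U.1)) (u (k + 1)))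
            (HLim.ζ_natural hℨ q hq J hIZ G hG.1 k)).trans ?_
          exact congrArg (fun χ => secMap hℨ.1 χ (ComplSec.pre q (g ⁻¹ᵁ U.1))
              ((ζ (k + 1)).hom.app (op (g ⁻¹ᵁ U.1)) (u (k + 1))))
            (FSch.levelSysOf_map_succ ℨ hℨ.1 (ComplSec.pullSys q hq G).F (ComplSec.pullSys q hq G).toPush k)
        rw [h1, RealLimSec.tr_naturality hℨ.1 _ _ (pre_eq φ g p q hsq U.1).ge k, hu (k + 1)]
        exact LinearMap.congr_fun (tr_π hℨ.1 (ComplSec.pullSys q hq G).F (ComplSec.pullSys q hq G).toPush k _) y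
      have hutr : ∀ {k l : ℕ} (h : k ≤ l),
          ((_root_.Formal.completion J G).map (homOfLE h).op).app (g ⁻¹ᵁ U.1) (u l) = u k := by
        intro k l h
        induction h with
        | refl => exact Formal.Elem.tr_self (_root_.Formal.completion J G) _ _
        | @step l h ih =>
          refine Eq.trans ?_ ((congrArg _ (hustep l)).trans ih)
          exact (Formal.Elem.tr_tr (_root_.Formal.completion J G) h (Nat.le_succ l) _).symm
      have hm : ∀ k, ∃ m : Γ(MM, U.1), (Formal.Elem.cπ J G k).app (g ⁻¹ᵁ U.1) m = u k := fun k => by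
        obtain ⟨m, hm⟩ := (hc k).2 (u (k + c))
        exact ⟨m, hm.trans (hutr (Nat.le_add_right k c))⟩
      choose m hm using hm
      -- the shifted approximations are compatible
      have hx : ∀ k, tr h𝔛.1 (ComplSec.pullSys p hp MM).F (ComplSec.pullSys p hp MM).toPush k (ComplSec.pre p U.1)
          (ComplSec.σ h𝔛.1 p hp MM (k + 1) U.1 (m (k + 1 + c))) =
          ComplSec.σ h𝔛.1 p hp MM k U.1 (m (k + c)) := fun k => by
        rw [ComplSec.tr_σ h𝔛.1 p hp MM h𝔛, ← sub_eq_zero, ← map_sub,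
          ComplSec.σ_eq_zero_iff h𝔛.1 p hp MM k U.2, hIX k U]
        refine (hc k).1 _ ?_
        change (Formal.Elem.cπ J G (k + c)).app (g ⁻¹ᵁ U.1) ((show Γ(G, g ⁻¹ᵁ U.1) from m (k + 1 + c)) - (show Γ(G, g ⁻¹ᵁ U.1) from m (k + c))) = 0
        have e1 := Formal.Elem.completion_π_tr (U := g ⁻¹ᵁ U.1) J G (show k + c ≤ k + 1 + c by omega) (m (k + 1 + c))
        rw [map_sub, hm (k + c), ← e1, hm (k + 1 + c), ← hutr (show k + c ≤ k + 1 + c by omega)]
        exact sub_self _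
      obtain ⟨x, hx'⟩ := RealLimSec.exists_of_compatible h𝔛.1 (ComplSec.pullSys p hp MM).F
        (ComplSec.pullSys p hp MM).toPush (V := ComplSec.pre p U.1)
        (fun k => ComplSec.σ h𝔛.1 p hp MM k U.1 (m (k + c))) hx
      refine ⟨x, RealLimSec.ext_of_π hℨ.1 _ _ _ _ fun k => ?_⟩
      have h1 := hcont k U.1 U.2 (x - eX U.1 (m (k + c)))
        (by rw [map_sub, hx', hπe, sub_self])
      rw [map_sub, hΘe] at h1
      have h2 := sub_eq_zero.1 ((map_sub _ _ _).symm.trans h1)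
      rw [h2]
      refine (π_eh φ hℨ g p q hq hsq G k U.1 (m (k + c))).trans (Eq.trans ?_ (hu k))
      rw [← hζσ]
      refine congrArg _ (congrArg _ ?_)
      rw [← Formal.Elem.completion_π_tr J G (Nat.le_add_right k c) (m (k + c)), hm (k + c)]
      exact hutr _
  haveI : IsIso ((SheafOfModules.toSheaf _).map Θ) := by
    refine TopCat.Sheaf.isIso_iff_isIso_basis (ComplSec.isBasis_pre p) fun U => ?_
    exact (ConcreteCategory.isIso_iff_bijective _).2 (hbij U)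
  have hΘ : IsIso Θ := isIso_of_reflects_iso Θ (SheafOfModules.toSheaf _)
  exact ⟨@asIso _ _ _ _ Θ hΘ⟩

end Groth.Agent.H78.FSchBridge.Push

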