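import Groth.Agent.H78.FSchBridge.Main
import Groth.Agent.H30.FSch.ComplHom
import Groth.Agent.H30.FSch.CohPres
import Groth.Agent.Lib.CohDelta.FPApprox.Colim
import Groth.Agent.S4473
import Mathlib.CategoryTheory.ObjectProperty.Ind

/-!
# Colimits of coherent modules on the completion of a proper scheme
-/

set_option autoImplicit false
set_option linter.style.haveILetI false
set_option linter.unusedSectionVars false

noncomputable section

universe u

open CategoryTheory CategoryTheory.Limits AlgebraicGeometry TopologicalSpace Opposite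
open Groth.Agent.H30 Groth.Agent.H30.RealLimSec Groth.Agent.Lib
open Groth.Agent.H78.Formal.Sections (sIdeal)

namespace Groth.Agent.H78.FSchBridge.Ind

variable {A : Type u} [CommRing A] {X : Scheme.{u}} [X.Over (Spec (CommRingCat.of A))]
  [IsLocallyNoetherian X] {𝔛 : FSch.Sys.{u}} (h𝔛 : 𝔛.IsLocNoethFormal)
  (p : ∀ n, 𝔛.X n ⟶ X) (hp : ∀ n, 𝔛.ι n ≫ p (n + 1) = p n) [∀ k, IsClosedImmersion (p k)]


/-- Naturality of the completed section. -/
lemma ehat_map {F G : X.Modules} (φ : F ⟶ G) (U : X.Opens) (m : Γ(F, U)) :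
    secMap h𝔛.1 (ComplExact.cmpMap h𝔛 p hp φ) (ComplSec.pre p U) (ComplPull.ehat h𝔛 p hp F U m) =
      ComplPull.ehat h𝔛 p hp G U (φ.app U m) := by
  refine RealLimSec.ext_of_π h𝔛.1 _ _ _ _ fun k => ?_
  exact (ComplExact.σ_map' h𝔛 p hp φ k U m _ (ComplPull.π_ehat h𝔛 p hp F k U m)).trans
    (ComplPull.π_ehat h𝔛 p hp G k U (φ.app U m)).symm

/-- The comparison is natural. -/
lemma γ_natural {F G : X.Modules} (φ : F ⟶ G) :
    (FSch.toSchemeMor 𝔛 h𝔛.1 p hp).pull.map φ ≫ ComplPull.γ h𝔛 p hp G = ComplPull.γ h𝔛 p hp F ≫ ComplExact.cmpMap h𝔛 p hp φ := by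
  apply ((FSch.toSchemeMor 𝔛 h𝔛.1 p hp).adj.homEquiv _ _).injective
  rw [Adjunction.homEquiv_naturality_left, Adjunction.homEquiv_naturality_right, ComplPull.homEquiv_γ,
    ComplPull.homEquiv_γ]
  refine SheafOfModules.hom_ext (PresheafOfModules.hom_ext fun U => ?_)
  refine ModuleCat.hom_ext (LinearMap.ext fun m => ?_)
  exact (ehat_map h𝔛 p hp φ U.unop m).symm

/-- The inverse image of a coherent module is coherent. -/
lemma isCohF_pull {F : X.Modules} (hF : Coh.IsCoh F) : FSch.IsCohF 𝔛 h𝔛.1 ((FSch.toSchemeMor 𝔛 h𝔛.1 p hp).pull.obj F) := by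
  have hc := ComplMonoEpi.isCoh_pullSys p hp hF
  haveI := ComplPull.isIso_γ h𝔛 p hp F hF hc
  exact ObjectProperty.prop_of_iso (SheafOfModules.isFinitePresentation (ModSite.ringSh (𝔛.Osh h𝔛.1)))
    (asIso (ComplPull.γ h𝔛 p hp F)).symm (CohPres.isCohF h𝔛 (ComplSec.pullSys p hp F) hc)

/-- A quasi-coherent module gives an ind-coherent one. -/
theorem ind_of_pull [CompactSpace X] [QuasiSeparatedSpace X] (G : X.Modules) [G.IsQuasicoherent]
    {𝔉 : FSch.ModF 𝔛 h𝔛.1} (e : (FSch.toSchemeMor 𝔛 h𝔛.1 p hp).pull.obj G ≅ 𝔉) :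
    (ObjectProperty.ind.{u} fun 𝔊 : FSch.ModF 𝔛 h𝔛.1 => FSch.IsCohF 𝔛 h𝔛.1 𝔊) 𝔉 := by
  obtain ⟨I, hI₁, hI₂, D, c, hc, hD, hpt⟩ := CohDelta.FPApprox.Colim.exists_colimit G
  subst hpt
  haveI : (FSch.toSchemeMor 𝔛 h𝔛.1 p hp).pull.IsLeftAdjoint := (FSch.toSchemeMor 𝔛 h𝔛.1 p hp).adj.isLeftAdjoint
  let pres : ColimitPresentation I ((FSch.toSchemeMor 𝔛 h𝔛.1 p hp).pull.obj c.pt) :=
    { diag := D ⋙ (FSch.toSchemeMor 𝔛 h𝔛.1 p hp).pull, ι := ((FSch.toSchemeMor 𝔛 h𝔛.1 p hp).pull.mapCocone c).ι, isColimit := isColimitOfPreserves (FSch.toSchemeMor 𝔛 h𝔛.1 p hp).pull hc }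
  refine ⟨I, hI₁, hI₂, pres.ofIso e, fun i => ?_⟩
  haveI : SheafOfModules.IsFinitePresentation (R := X.ringCatSheaf) (D.obj i) := hD i
  exact isCohF_pull h𝔛 p hp ⟨inferInstance, inferInstance⟩

variable (J : Ideal A) (hI : ∀ k (U : X.affineOpens), (p k).ker.ideal U = sIdeal J U.1 ^ (k + 1))
  [IsNoetherianRing A] [IsAdicComplete J A] [IsProper (X ↘ Spec (CommRingCat.of A))]

lemma isProperOver_of_isClosed {T : Set X} (hT : IsClosed T) :
    ClSub.IsProperOver (X ↘ Spec (CommRingCat.of A)) T :=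
  ⟨hT, inferInstance⟩

include hI in
/-- The inverse image is faithful on coherent modules. -/
theorem map_injective {F G : X.Modules} (hF : Coh.IsCoh F) (hG : Coh.IsCoh G) {φ φ' : F ⟶ G}
    (h : (FSch.toSchemeMor 𝔛 h𝔛.1 p hp).pull.map φ = (FSch.toSchemeMor 𝔛 h𝔛.1 p hp).pull.map φ') : φ = φ' := by
  haveI := ComplPull.isIso_γ h𝔛 p hp F hF (ComplMonoEpi.isCoh_pullSys p hp hF)
  have h' : ComplExact.cmpMap h𝔛 p hp φ = ComplExact.cmpMap h𝔛 p hp φ' := by
    rw [← cancel_epi (ComplPull.γ h𝔛 p hp F), ← γ_natural, ← γ_natural, h]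
  have hF' : SheafOfModules.IsFiniteType (R := X.ringCatSheaf) F := hF.2
  have hG' : SheafOfModules.IsFiniteType (R := X.ringCatSheaf) G := hG.2
  have hs : ClSub.IsProperOver (X ↘ Spec (CommRingCat.of A)) (CohB1.support F ∩ CohB1.support G) :=
    isProperOver_of_isClosed ((Modules.Support.isClosed_support F).inter (Modules.Support.isClosed_support G))
  have hπ : ∀ n : ℕ, (φ - φ') ≫ _root_.Formal.modPowπ J (n + 1) G = 0 := fun n => by
    haveI := hF.1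
    haveI := hG.1
    rw [Preadditive.sub_comp, sub_eq_zero]
    refine Formal.Sections.hom_ext_affine fun U hU m => ?_
    show (_root_.Formal.modPowπ J (n + 1) G).app U (φ.app U m) =
      (_root_.Formal.modPowπ J (n + 1) G).app U (φ'.app U m)
    rw [← sub_eq_zero, ← map_sub, Formal.Sections.modPowπ_eq_zero_iff J (n + 1) hU, ← hI n ⟨U, hU⟩,
      ← ComplSec.σ_eq_zero_iff h𝔛.1 p hp G n hU, map_sub, sub_eq_zero]
    have h1 := congrArg (fun χ => π h𝔛.1 _ _ n (ComplSec.pre p U)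
      (secMap h𝔛.1 χ (ComplSec.pre p U) (ComplPull.ehat h𝔛 p hp F U m))) h'
    exact ((ComplPull.π_ehat h𝔛 p hp G n U (φ.app U m)).symm.trans
      ((congrArg (π h𝔛.1 (ComplSec.pullSys p hp G).F (ComplSec.pullSys p hp G).toPush n (ComplSec.pre p U))
        (ehat_map h𝔛 p hp φ U m)).symm.trans (h1.trans ((congrArg (π h𝔛.1 (ComplSec.pullSys p hp G).F
          (ComplSec.pullSys p hp G).toPush n (ComplSec.pre p U)) (ehat_map h𝔛 p hp φ' U m)).trans
            (ComplPull.π_ehat h𝔛 p hp G n U (φ'.app U m))))))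
  obtain ⟨χ, -, huniq⟩ := Groth.Agent.S4473.result A J X F G hF hG hs 0
  have h1 := huniq (φ - φ') fun n => by rw [hπ n]; exact comp_zero
  have h2 := huniq 0 fun n => by rw [zero_comp]; exact comp_zero
  exact sub_eq_zero.1 (h1.trans h2.symm)

include hI in
/-- The inverse image is full on coherent modules. -/
theorem exists_map_eq {F G : X.Modules} (hF : Coh.IsCoh F) (hG : Coh.IsCoh G)
    (Ψ : (FSch.toSchemeMor 𝔛 h𝔛.1 p hp).pull.obj F ⟶ (FSch.toSchemeMor 𝔛 h𝔛.1 p hp).pull.obj G) : ∃ φ : F ⟶ G, (FSch.toSchemeMor 𝔛 h𝔛.1 p hp).pull.map φ = Ψ := by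
  haveI := ComplPull.isIso_γ h𝔛 p hp F hF (ComplMonoEpi.isCoh_pullSys p hp hF)
  haveI := ComplPull.isIso_γ h𝔛 p hp G hG (ComplMonoEpi.isCoh_pullSys p hp hG)
  have hF' : SheafOfModules.IsFiniteType (R := X.ringCatSheaf) F := hF.2
  have hG' : SheafOfModules.IsFiniteType (R := X.ringCatSheaf) G := hG.2
  obtain ⟨φ, hφ⟩ := ComplHom.exists_cmpMap_eq h𝔛 p hp J hI
    (inv (ComplPull.γ h𝔛 p hp F) ≫ Ψ ≫ ComplPull.γ h𝔛 p hp G) hF hG
    (isProperOver_of_isClosed ((Modules.Support.isClosed_support F).inter (Modules.Support.isClosed_support G)))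
  refine ⟨φ, (cancel_mono (ComplPull.γ h𝔛 p hp G)).1 ?_⟩
  rw [γ_natural, hφ, IsIso.hom_inv_id_assoc]

include hI in
/-- A coherent module is an inverse image. -/
theorem exists_pull_iso {𝔊 : FSch.ModF 𝔛 h𝔛.1} (h : FSch.IsCohF 𝔛 h𝔛.1 𝔊) :
    ∃ M : X.Modules, Coh.IsCoh M ∧ Nonempty ((FSch.toSchemeMor 𝔛 h𝔛.1 p hp).pull.obj M ≅ 𝔊) := by
  haveI : ∀ n, IsLocallyNoetherian (𝔛.X n) := fun n => LocallyOfFiniteType.isLocallyNoetherian (p n)
  have hcoh : Coh.IsCoh (Main.bot h𝔛 p 𝔊) := Cyc.PP.Push.isCoh_push (p 0) (CohF.isCoh_sys h𝔛 𝔊 h 0)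
  haveI : SheafOfModules.IsFiniteType (R := X.ringCatSheaf) (Main.bot h𝔛 p 𝔊) := hcoh.2
  obtain ⟨M, hM, -, ⟨e⟩⟩ := Main.isAlg_of_proper h𝔛 p hp J hI h
    (isProperOver_of_isClosed (Modules.Support.isClosed_support _))
  haveI := ComplPull.isIso_γ h𝔛 p hp M hM (ComplMonoEpi.isCoh_pullSys p hp hM)
  exact ⟨M, hM, ⟨asIso (ComplPull.γ h𝔛 p hp M) ≪≫ e.symm⟩⟩

include hI in
/-- An ind-coherent module is the inverse image of a quasi-coherent one. -/
theorem exists_of_ind {𝔉 : FSch.ModF 𝔛 h𝔛.1}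
    (h : (ObjectProperty.ind.{u} fun 𝔊 : FSch.ModF 𝔛 h𝔛.1 => FSch.IsCohF 𝔛 h𝔛.1 𝔊) 𝔉) :
    ∃ G : X.Modules, SheafOfModules.IsQuasicoherent.{u} G ∧ Nonempty ((FSch.toSchemeMor 𝔛 h𝔛.1 p hp).pull.obj G ≅ 𝔉) := by
  obtain ⟨I, hI₁, hI₂, pres, hD⟩ := h
  choose M hM hMe using fun i => exists_pull_iso h𝔛 p hp J hI (hD i)
  let e := fun i => (hMe i).some
  choose f hf using fun (i j : I) (a : i ⟶ j) =>
    exists_map_eq h𝔛 p hp J hI (hM i) (hM j) ((e i).hom ≫ pres.diag.map a ≫ (e j).inv)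
  let D : I ⥤ X.Modules :=
    { obj := M
      map := fun {i j} a => f i j a
      map_id := fun i => map_injective h𝔛 p hp J hI (hM i) (hM i) (by
        refine (hf i i (𝟙 i)).trans ((congrArg (fun t => (e i).hom ≫ t ≫ (e i).inv) (pres.diag.map_id i)).trans
          (Eq.trans ?_ ((FSch.toSchemeMor 𝔛 h𝔛.1 p hp).pull.map_id (M i)).symm))
        exact (congrArg ((e i).hom ≫ ·) (Category.id_comp _)).trans (e i).hom_inv_id)
      map_comp := fun {i j k} a b => map_injective h𝔛 p hp J hI (hM i) (hM k) (by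
        refine (hf i k (a ≫ b)).trans ((congrArg (fun t => (e i).hom ≫ t ≫ (e k).inv) (pres.diag.map_comp a b)).trans
          (Eq.trans ?_ (((FSch.toSchemeMor 𝔛 h𝔛.1 p hp).pull.map_comp _ _).trans (congrArg₂ (· ≫ ·) (hf i j a) (hf j k b))).symm))
        simp only [Category.assoc, Iso.inv_hom_id_assoc]) }
  let ν : D ⋙ (FSch.toSchemeMor 𝔛 h𝔛.1 p hp).pull ≅ pres.diag := NatIso.ofComponents e fun {i j} a => by
    show (FSch.toSchemeMor 𝔛 h𝔛.1 p hp).pull.map (f i j a) ≫ (e j).hom = (e i).hom ≫ pres.diag.map a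
    rw [hf]
    simp only [Category.assoc, Iso.inv_hom_id, Category.comp_id]
  haveI : (FSch.toSchemeMor 𝔛 h𝔛.1 p hp).pull.IsLeftAdjoint := (FSch.toSchemeMor 𝔛 h𝔛.1 p hp).adj.isLeftAdjoint
  refine ⟨colimit D, QCoh.Closure.isQCoh_of_isColimit (colimit.isColimit D) fun i => (hM i).1,
    ⟨(isColimitOfPreserves (FSch.toSchemeMor 𝔛 h𝔛.1 p hp).pull (colimit.isColimit D)).coconePointsIsoOfNatIso pres.isColimit ν⟩⟩

end Groth.Agent.H78.FSchBridge.Ind
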