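import Groth.Agent.H78.FSchBridge.Sys
import Groth.Agent.H30.FSch.ComplAlg
import Groth.Agent.H30.FSch.CohRed
import Groth.Agent.H30.FSch.CohF
import Groth.Agent.Lib.PushClosed.Basic
import Groth.Agent.H78.Proper.SupportedExistence

/-!
# Extensions of algebraizable modules on a completion are algebraizable
-/

set_option autoImplicit false
set_option linter.style.haveILetI false

noncomputable section

universe u

open CategoryTheory CategoryTheory.Limits AlgebraicGeometry TopologicalSpace Opposite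
open Groth.Agent.H30 Groth.Agent.Lib
open Groth.Agent.H78.Formal.Sections (sIdeal)

namespace Groth.Agent.H78.FSchBridge.Main

variable {A : Type u} [CommRing A] {X : Scheme.{u}} [X.Over (Spec (CommRingCat.of A))]
  [IsLocallyNoetherian X] {𝔛 : FSch.Sys.{u}} (h𝔛 : 𝔛.IsLocNoethFormal)
  (p : ∀ n, 𝔛.X n ⟶ X) (hp : ∀ n, 𝔛.ι n ≫ p (n + 1) = p n) [∀ k, IsClosedImmersion (p k)]
  (J : Ideal A) (hI : ∀ k (U : X.affineOpens), (p k).ker.ideal U = sIdeal J U.1 ^ (k + 1))

/-- The inverse image on the bottom level followed by the direct image on the scheme. -/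
abbrev bot (𝔗 : FSch.ModF 𝔛 h𝔛.1) : X.Modules :=
  (Scheme.Modules.pushforward (p 0)).obj (LevelPull.pullk h𝔛.1 0 𝔗)

include hI in
/-- The bottom of an algebraizable module is supported in the support of an algebraization. -/
theorem support_bot_subset {𝔗 : FSch.ModF 𝔛 h𝔛.1} {G : X.Modules} (hG : Coh.IsCoh G)
    (e : 𝔗 ≅ ComplExact.cmp h𝔛 p hp G) : CohB1.support (bot h𝔛 p 𝔗) ⊆ CohB1.support G := by
  have hc := ComplMonoEpi.isCoh_pullSys p hp hG
  let e₁ : LevelPull.pullk h𝔛.1 0 𝔗 ≅ (Scheme.Modules.pullback (p 0)).obj G :=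
    (FSch.levelMor 𝔛 h𝔛.1 0).pull.mapIso e ≪≫
      @asIso _ _ _ _ (((FSch.levelMor 𝔛 h𝔛.1 0).adj.homEquiv _ _).symm
        (FSch.realProj 𝔛 h𝔛.1 (ComplSec.pullSys p hp G).F (ComplSec.pullSys p hp G).toPush 0))
        (LevelAdj.isIso_adjunct (CohRed.isRed h𝔛 (ComplSec.pullSys p hp G) hc 0))
  let e₂ : bot h𝔛 p 𝔗 ≅ (Scheme.Modules.pushforward (p 0)).obj ((Scheme.Modules.pullback (p 0)).obj G) :=
    (Scheme.Modules.pushforward (p 0)).mapIso e₁
  rw [Modules.Support.support_congr e₂]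
  haveI := hG.1
  obtain ⟨d, hd, hd'⟩ := HLim.exists_iso_modPow p J hI G hG.1 0
  haveI := hd
  haveI : Epi (_root_.Formal.modPowπ J (0 + 1) G) := inferInstanceAs (Epi (cokernel.π _))
  haveI : Epi ((Scheme.Modules.pullbackPushforwardAdjunction (p 0)).unit.app G) :=
    hd' ▸ epi_comp _ _
  exact Modules.Support.support_subset_of_epi ((Scheme.Modules.pullbackPushforwardAdjunction (p 0)).unit.app G)

omit [IsLocallyNoetherian X] in
/-- The bottom of the middle term is supported in the union of the supports of the outer bottoms. -/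
theorem support_bot_middle {S : ShortComplex (FSch.ModF 𝔛 h𝔛.1)} (hS : S.ShortExact) :
    CohB1.support (bot h𝔛 p S.X₂) ⊆ CohB1.support (bot h𝔛 p S.X₁) ∪ CohB1.support (bot h𝔛 p S.X₃) := by
  haveI := hS.epi_g
  have hpush : (Scheme.Modules.pushforward (p 0)).IsLeftAdjoint := PushClosed.Basic.pushforward_isLeftAdjoint (p 0)
  haveI : (FSch.levelMor 𝔛 h𝔛.1 0).pull.IsLeftAdjoint := (FSch.levelMor 𝔛 h𝔛.1 0).adj.isLeftAdjoint
  let P := (FSch.levelMor 𝔛 h𝔛.1 0).pull ⋙ Scheme.Modules.pushforward (p 0)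
  have hw : S.f ≫ S.g = 0 := S.zero
  haveI : P.IsLeftAdjoint := @Functor.isLeftAdjoint_comp _ _ _ _ _ _ _ _ inferInstance hpush
  haveI : P.Additive :=
    haveI : PreservesBinaryBiproducts P := preservesBinaryBiproducts_of_preservesBinaryCoproducts P
    Functor.additive_of_preservesBinaryBiproducts P
  let T := S.map P
  have hT := (ShortComplex.exact_and_epi_g_iff_g_is_cokernel T).2
    ⟨isColimitCoforkMapOfIsColimit' P hw hS.gIsCokernel⟩
  haveI : Epi T.g := hT.2
  -- factor the first map through its image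
  have hfac : T.f = Abelian.factorThruImage T.f ≫ Abelian.image.ι T.f := (Abelian.image.fac T.f).symm
  have hw' : Abelian.image.ι T.f ≫ T.g = 0 := by
    rw [← cancel_epi (Abelian.factorThruImage T.f), ← Category.assoc, Abelian.image.fac, comp_zero]
    exact T.zero
  have hex : (ShortComplex.mk _ _ hw').Exact := T.exact_iff_exact_image_ι.1 hT.1
  have hse : (ShortComplex.mk _ _ hw').ShortExact := ShortComplex.ShortExact.mk' hex inferInstance hT.2
  refine (Modules.Support.support_eq_union_of_shortExact hse).subset.trans (Set.union_subset ?_ ?_)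
  · exact Set.subset_union_of_subset_left
      (Modules.Support.support_subset_of_epi (Abelian.factorThruImage T.f)) _
  · exact Set.subset_union_right

variable [IsNoetherianRing A] [IsAdicComplete J A] [IsSeparated (X ↘ Spec (CommRingCat.of A))]
  [LocallyOfFiniteType (X ↘ Spec (CommRingCat.of A))] [QuasiCompact (X ↘ Spec (CommRingCat.of A))]

include hI in
/-- A coherent module whose bottom has support proper over the base is algebraizable. -/
theorem isAlg_of_proper {𝔗 : FSch.ModF 𝔛 h𝔛.1} (h : FSch.IsCohF 𝔛 h𝔛.1 𝔗)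
    (hs : ClSub.IsProperOver (X ↘ Spec (CommRingCat.of A)) (CohB1.support (bot h𝔛 p 𝔗))) :
    ComplAlg.IsAlg h𝔛 p hp (X ↘ Spec (CommRingCat.of A)) 𝔗 := by
  have hc := CohF.isCoh_sys h𝔛 𝔗 h
  obtain ⟨M, hM, hMs, ⟨Φ⟩⟩ := Proper.SupportedExistence.exists_algebraization _
    (Sys.isCohFormal h𝔛 p hp J hI (CohF.sys 𝔗) hc) hs
  obtain ⟨e⟩ := Sys.exists_iso_realMod h𝔛 p hp J hI (CohF.sys 𝔗) hM Φ
  haveI := CohF.isIso_θ h𝔛 𝔗 h
  exact ⟨M, hM, hMs, ⟨asIso (CohF.θ 𝔗) ≪≫ e.symm⟩⟩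

include hI in
/-- An extension of algebraizable modules is algebraizable. -/
theorem isAlg_of_shortExact {S : ShortComplex (FSch.ModF 𝔛 h𝔛.1)} (hS : S.ShortExact)
    (h₂ : FSch.IsCohF 𝔛 h𝔛.1 S.X₂)
    (a₁ : ComplAlg.IsAlg h𝔛 p hp (X ↘ Spec (CommRingCat.of A)) S.X₁)
    (a₃ : ComplAlg.IsAlg h𝔛 p hp (X ↘ Spec (CommRingCat.of A)) S.X₃) :
    ComplAlg.IsAlg h𝔛 p hp (X ↘ Spec (CommRingCat.of A)) S.X₂ := by
  obtain ⟨G₁, hG₁, hG₁s, ⟨e₁⟩⟩ := a₁
  obtain ⟨G₃, hG₃, hG₃s, ⟨e₃⟩⟩ := a₃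
  refine isAlg_of_proper h𝔛 p hp J hI h₂ ?_
  haveI : ∀ n, IsLocallyNoetherian (𝔛.X n) := fun n => LocallyOfFiniteType.isLocallyNoetherian (p n)
  have hcoh : Coh.IsCoh (bot h𝔛 p S.X₂) := Cyc.PP.Push.isCoh_push (p 0) (CohF.isCoh_sys h𝔛 S.X₂ h₂ 0)
  haveI := hcoh.2
  refine ZarCoh.ProperOver.isProperOver_of_subset_iUnion _
    (fun b : Bool => if b then CohB1.support G₁ else CohB1.support G₃)
    (fun b => by cases b <;> simpa using ‹_›) (Modules.Support.isClosed_support _) ?_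
  intro x hx
  rcases support_bot_middle h𝔛 p hS hx with h | h
  · exact Set.mem_iUnion.2 ⟨true, by simpa using support_bot_subset h𝔛 p hp J hI hG₁ e₁ h⟩
  · exact Set.mem_iUnion.2 ⟨false, by simpa using support_bot_subset h𝔛 p hp J hI hG₃ e₃ h⟩

include hI in
/-- A coherent module with algebraizable kernel, cokernel and target is algebraizable. -/
theorem isAlg_of_kernel_cokernel {𝔉 𝔊 : FSch.ModF 𝔛 h𝔛.1} (u : 𝔉 ⟶ 𝔊) (h : FSch.IsCohF 𝔛 h𝔛.1 𝔉)
    (a : ComplAlg.IsAlg h𝔛 p hp (X ↘ Spec (CommRingCat.of A)) 𝔊)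
    (ak : ComplAlg.IsAlg h𝔛 p hp (X ↘ Spec (CommRingCat.of A)) (kernel u))
    (ac : ComplAlg.IsAlg h𝔛 p hp (X ↘ Spec (CommRingCat.of A)) (cokernel u))
    (hker : ∀ k (U : X.affineOpens), (p k).ker.ideal U = (p 0).ker.ideal U ^ (k + 1)) :
    ComplAlg.IsAlg h𝔛 p hp (X ↘ Spec (CommRingCat.of A)) 𝔉 := by
  have him : ComplAlg.IsAlg h𝔛 p hp (X ↘ Spec (CommRingCat.of A)) (Abelian.image u) :=
    (ComplAlg.isAlg_kernel_image_cokernel h𝔛 p hp hker J hI a ac (cokernel.π u)).1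
  let e := Abelian.factorThruImage u
  have heι : e ≫ Abelian.image.ι u = u := Abelian.image.fac u
  have hS : (ShortComplex.mk (kernel.ι u) e (by
      rw [← cancel_mono (Abelian.image.ι u), Category.assoc, heι, kernel.condition, zero_comp])).ShortExact := by
    refine ShortComplex.ShortExact.mk' (ShortComplex.exact_of_f_is_kernel _ ?_) inferInstance inferInstance
    refine KernelFork.IsLimit.ofι' _ _ fun k hk => ?_
    refine ⟨kernel.lift u k ?_, kernel.lift_ι _ _ _⟩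
    rw [← heι, ← Category.assoc, hk, zero_comp]
  exact isAlg_of_shortExact h𝔛 p hp J hI hS h ak him

end Groth.Agent.H78.FSchBridge.Main
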