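import Groth.Agent.H30.FSch.HLim
import Groth.Agent.H30.FSch.PullFSys
import Groth.Agent.H78.Formal.Sys
import Groth.Agent.Lib.Cyc.PP.Push

/-!
# Systems of coherent modules on a completion as coherent formal modules on the scheme
-/

set_option autoImplicit false
set_option linter.style.haveILetI false

noncomputable section

universe u

open CategoryTheory CategoryTheory.Limits AlgebraicGeometry TopologicalSpace Opposite
open Groth.Agent.H30 Groth.Agent.Lib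
open Groth.Agent.H78.Formal.Sections

namespace Groth.Agent.H78.FSchBridge.Sys

variable {A : Type u} [CommRing A] {X : Scheme.{u}} [X.Over (Spec (CommRingCat.of A))]
  {𝔛 : FSch.Sys.{u}} (h𝔛 : 𝔛.IsLocNoethFormal)
  (p : ∀ n, 𝔛.X n ⟶ X) (hp : ∀ n, 𝔛.ι n ≫ p (n + 1) = p n)
  (J : Ideal A) (hI : ∀ k (U : X.affineOpens), (p k).ker.ideal U = sIdeal J U.1 ^ (k + 1))
  (𝔐 : FSch.ModSys 𝔛)

include hp in
lemma preimage_eq (n : ℕ) (U : X.Opens) : p n ⁻¹ᵁ U = 𝔛.ι n ⁻¹ᵁ (p (n + 1) ⁻¹ᵁ U) := by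
  rw [← hp n]; rfl

/-- A map of systems which is an isomorphism on every level, as an isomorphism. -/
def isoOfApp {𝔄 𝔅 : FSch.ModSys 𝔛} (Ψ : 𝔄 ⟶ 𝔅) (h : ∀ k, IsIso (Ψ.app k)) : 𝔄 ≅ 𝔅 :=
  haveI := h
  { hom := Ψ
    inv := ⟨fun k => inv (Ψ.app k), fun k => by
      rw [IsIso.eq_comp_inv, Category.assoc, ← Ψ.comm k, ← Category.assoc, ← Functor.map_comp,
        IsIso.inv_hom_id, CategoryTheory.Functor.map_id, Category.id_comp]⟩
    hom_inv_id := FSch.ModSys.Hom.ext (funext fun k => IsIso.hom_inv_id (Ψ.app k))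
    inv_hom_id := FSch.ModSys.Hom.ext (funext fun k => IsIso.inv_hom_id (Ψ.app k)) }

/-- The direct image of a level. -/
abbrev G (n : ℕ) : X.Modules := (Scheme.Modules.pushforward (p n)).obj (𝔐.F n)

/-- The transition map of the direct images. -/
def T (n : ℕ) : G p 𝔐 (n + 1) ⟶ G p 𝔐 n :=
  (Scheme.Modules.pushforward (p (n + 1))).map (𝔐.toPush n) ≫
    (Scheme.Modules.pushforwardComp (𝔛.ι n) (p (n + 1))).hom.app (𝔐.F n) ≫
      (Scheme.Modules.pushforwardCongr (hp n)).hom.app (𝔐.F n)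

lemma T_app (n : ℕ) (U : X.Opens) (x : Γ(𝔐.F (n + 1), p (n + 1) ⁻¹ᵁ U)) :
    (T p hp 𝔐 n).app U x = (𝔐.F n).presheaf.map (homOfLE (preimage_eq p hp n U).le).op
      ((𝔐.toPush n).app (p (n + 1) ⁻¹ᵁ U) x) := by
  change (𝔐.F n).presheaf.map _ ((𝔐.toPush n).app (p (n + 1) ⁻¹ᵁ U) x) = _
  congr 2

lemma toPush_app (n : ℕ) (V : (𝔛.X (n + 1)).Opens) (x : Γ(𝔐.F (n + 1), V)) :
    (𝔐.toPush n).app V x = (𝔐.e n).hom.app (𝔛.ι n ⁻¹ᵁ V)
      (((Scheme.Modules.pullbackPushforwardAdjunction (𝔛.ι n)).unit.app (𝔐.F (n + 1))).app V x) := by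
  rw [FSch.ModSys.toPush, Adjunction.homEquiv_unit]
  rfl

variable [∀ k, IsClosedImmersion (p k)]

include hI in
lemma app_eq_zero {n : ℕ} {U : X.Opens} (hU : IsAffineOpen U) (b : Γ(X, U)) :
    (p n).app U b = 0 ↔ b ∈ sIdeal J U ^ (n + 1) := by
  rw [← hI n ⟨U, hU⟩, Scheme.Hom.ker_apply, RingHom.mem_ker]

omit [∀ k, IsClosedImmersion (p k)] in
lemma app_app_eq_zero_iff {W V : Scheme.{u}} {g : W ⟶ V} {h : V ⟶ X} {k : W ⟶ X} (e : g ≫ h = k)
    (U : X.Opens) (b : Γ(X, U)) : g.app (h ⁻¹ᵁ U) (h.app U b) = 0 ↔ k.app U b = 0 := by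
  subst e
  exact Iff.rfl

variable (h𝔐 : 𝔐.IsCoh)

include h𝔛 hp hI h𝔐 in
/-- The transition maps are surjective with the expected kernels on affine opens. -/
theorem T_spec (n : ℕ) {U : X.Opens} (hU : IsAffineOpen U) :
    Function.Surjective ((T p hp 𝔐 n).app U) ∧ ∀ x, (T p hp 𝔐 n).app U x = 0 ↔
      x ∈ sIdeal J U ^ (n + 1) • (⊤ : Submodule Γ(X, U) Γ(G p 𝔐 (n + 1), U)) := by
  haveI := (h𝔛.1 n).1
  haveI : (𝔐.F (n + 1)).IsQuasicoherent := (h𝔐 (n + 1)).1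
  have hV : IsAffineOpen (p (n + 1) ⁻¹ᵁ U) := hU.preimage _
  have hres := CohSys.restrict_bijective (𝔐.F n) (preimage_eq p hp n U).le (preimage_eq p hp n U).ge
  have he : Function.Bijective ((𝔐.e n).hom.app (𝔛.ι n ⁻¹ᵁ (p (n + 1) ⁻¹ᵁ U))) :=
    app_bijective (𝔐.e n).hom _
  refine ⟨fun y => ?_, fun x => ?_⟩
  · obtain ⟨z, hz⟩ := hres.2 y
    obtain ⟨w, hw⟩ := he.2 z
    obtain ⟨x, hx⟩ := UnitKernel.unit_app_surjective (𝔛.ι n) (𝔐.F (n + 1)) hV w
    refine ⟨x, ?_⟩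
    refine (T_app p hp 𝔐 n U x).trans ?_
    rw [toPush_app, hx, hw, hz]
  · have hJ : (sIdeal J U ^ (n + 1)).map ((p (n + 1)).app U).hom = (𝔛.ι n).ker.ideal ⟨_, hV⟩ := by
      rw [Scheme.Hom.ker_apply]
      have hcomp : ∀ b, (𝔛.ι n).app (p (n + 1) ⁻¹ᵁ U) ((p (n + 1)).app U b) = 0 ↔ b ∈ sIdeal J U ^ (n + 1) := by
        intro b
        rw [← app_eq_zero p J hI hU b]
        exact app_app_eq_zero_iff (hp n) U b
      refine le_antisymm (Ideal.map_le_iff_le_comap.2 fun b hb => ?_) fun a ha => ?_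
      · rw [Ideal.mem_comap, RingHom.mem_ker]
        exact (hcomp b).2 hb
      · obtain ⟨b, rfl⟩ := (p (n + 1)).app_surjective U hU a
        exact Ideal.mem_map_of_mem _ ((hcomp b).1 ha)
    letI : Module Γ(𝔛.X (n + 1), p (n + 1) ⁻¹ᵁ U) Γ(G p 𝔐 (n + 1), U) :=
      inferInstanceAs (Module Γ(𝔛.X (n + 1), p (n + 1) ⁻¹ᵁ U) Γ(𝔐.F (n + 1), p (n + 1) ⁻¹ᵁ U))
    refine Iff.trans ?_ (CohSys.mem_map_smul_top_iff ((p (n + 1)).app U).hom
      ((p (n + 1)).app_surjective U hU) (M := Γ(G p 𝔐 (n + 1), U)) (fun _ _ => rfl) _ x)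
    rw [hJ]
    refine Iff.trans ?_ (UnitKernel.unit_app_eq_zero_iff (𝔛.ι n) (𝔐.F (n + 1)) hV x)
    rw [show (T p hp 𝔐 n).app U x = _ from T_app p hp 𝔐 n U x, toPush_app]
    constructor
    · intro hx
      exact he.1 ((hres.1 (hx.trans (map_zero _).symm)).trans (map_zero _).symm)
    · intro hx
      rw [hx]
      exact (congrArg _ (map_zero _)).trans (map_zero _)

variable [IsLocallyNoetherian X]

include h𝔛 hI h𝔐 in
/-- The direct images form a coherent formal module. -/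
theorem isCohFormal :
    _root_.Formal.IsCohFormal J (Functor.ofOpSequence (X := fun n => G p 𝔐 n) (T p hp 𝔐)) := by
  haveI : ∀ n, IsLocallyNoetherian (𝔛.X n) := fun n => LocallyOfFiniteType.isLocallyNoetherian (p n)
  have hc : ∀ n, Coh.IsCoh (G p 𝔐 n) := fun n => Cyc.PP.Push.isCoh_push (p n) (h𝔐 n)
  haveI := fun n => (hc n).1
  refine ⟨hc, fun n => ?_, fun n => ?_⟩
  · haveI : ((Functor.ofOpSequence (X := fun n => G p 𝔐 n) (T p hp 𝔐)).obj (op n)).IsQuasicoherent := (hc n).1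
    refine (killedBy_iff _).2 fun U hU => eq_bot_iff.2 (Submodule.smul_le.2 fun r hr s _ => ?_)
    rw [sIdeal_pow] at hr
    rw [Submodule.mem_bot]
    change (p n).app U r • (show Γ(𝔐.F n, p n ⁻¹ᵁ U) from s) = (0 : Γ(𝔐.F n, p n ⁻¹ᵁ U))
    rw [(app_eq_zero p J hI hU r).2 hr, zero_smul]
  · rw [Functor.ofOpSequence_map_homOfLE_succ]
    haveI : ((Functor.ofOpSequence (X := fun n => G p 𝔐 n) (T p hp 𝔐)).obj (op (n + 1))).IsQuasicoherent :=
      (hc (n + 1)).1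
    haveI : ((Functor.ofOpSequence (X := fun n => G p 𝔐 n) (T p hp 𝔐)).obj (op n)).IsQuasicoherent := (hc n).1
    refine Formal.Sys.exists_isIso_desc (J ^ (n + 1)) _
      (fun U hU => (T_spec h𝔛 p hp J hI 𝔐 h𝔐 n hU).1) fun U hU s => ?_
    rw [sIdeal_pow]
    exact (T_spec h𝔛 p hp J hI 𝔐 h𝔐 n hU).2 s

omit [IsLocallyNoetherian X] in
/-- The direct image along a closed immersion reflects isomorphisms. -/
lemma isIso_of_isIso_push {Z : Scheme.{u}} (i : Z ⟶ X) [IsClosedImmersion i] {M N : Z.Modules}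
    (φ : M ⟶ N) (h : IsIso ((Scheme.Modules.pushforward i).map φ)) : IsIso φ := by
  rw [Scheme.Modules.Hom.isIso_iff_isIso_app]
  intro V
  obtain ⟨O, hO, hOV⟩ := i.isClosedEmbedding.isEmbedding.isInducing.isOpen_iff.1 V.2
  obtain rfl : V = i ⁻¹ᵁ ⟨O, hO⟩ := Opens.ext hOV.symm
  have h1 : IsIso (((Scheme.Modules.pushforward i).map φ).app ⟨O, hO⟩) := inferInstance
  exact h1

include h𝔛 hI in
/-- An algebraization of the formal module of the direct images algebraizes the module of the system. -/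
theorem exists_iso_realMod {M : X.Modules} (hM : Coh.IsCoh M)
    (Φ : _root_.Formal.completion J M ≅ Functor.ofOpSequence (X := fun n => G p 𝔐 n) (T p hp 𝔐)) :
    Nonempty ((ComplSec.pullSys p hp M).realMod h𝔛.1 ≅ 𝔐.realMod h𝔛.1) := by
  haveI := hM.1
  let a : ∀ k, M ⟶ G p 𝔐 k := fun k => _root_.Formal.modPowπ J (k + 1) M ≫ Φ.hom.app (op k)
  have ha : ∀ k, a (k + 1) ≫ T p hp 𝔐 k = a k := fun k => by
    have h1 : (_root_.Formal.completion J M).map (homOfLE (Nat.le_succ k)).op =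
        _root_.Formal.modPowTrans J (k + 1) M := by
      simp only [_root_.Formal.completion, Functor.ofOpSequence_map_homOfLE_succ]
    have h2 := Φ.hom.naturality (homOfLE (Nat.le_succ k)).op
    rw [h1, Functor.ofOpSequence_map_homOfLE_succ] at h2
    change (_root_.Formal.modPowπ J (k + 1 + 1) M ≫ Φ.hom.app (op (k + 1))) ≫ T p hp 𝔐 k = _
    rw [Category.assoc]
    refine Eq.trans (congrArg (_root_.Formal.modPowπ J (k + 1 + 1) M ≫ ·) h2.symm) ?_
    refine (Category.assoc _ _ _).symm.trans ?_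
    exact congrArg (· ≫ Φ.hom.app (op k)) (_root_.Formal.modPowπ_trans J (k + 1) M)
  let φ : ∀ k, (Scheme.Modules.pullback (p k)).obj M ⟶ 𝔐.F k := fun k =>
    ((Scheme.Modules.pullbackPushforwardAdjunction (p k)).homEquiv _ _).symm (a k)
  have hφ : ∀ k, (Scheme.Modules.pullbackPushforwardAdjunction (p k)).unit.app M ≫
      (Scheme.Modules.pushforward (p k)).map (φ k) = a k := fun k => by
    exact ((Scheme.Modules.pullbackPushforwardAdjunction (p k)).homEquiv_unit M (𝔐.F k) (φ k)).symm.trans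
      (Equiv.apply_symm_apply _ _)
  have hφe : ∀ k (U : X.Opens) (m : Γ(M, U)),
      (φ k).app (p k ⁻¹ᵁ U) (CohDelta.Units.eta (p k) M U m) = (a k).app U m := fun k U m =>
    congr(($(hφ k)).app U m)
  have hiso : ∀ k, IsIso (φ k) := fun k => by
    haveI := HLim.isIso_dd p J hI M hM.1 k
    haveI : Epi (_root_.Formal.modPowπ J (k + 1) M) := inferInstanceAs (Epi (cokernel.π _))
    have h1 : HLim.dd p J hI M hM.1 k ≫ (Scheme.Modules.pushforward (p k)).map (φ k) = Φ.hom.app (op k) := by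
      rw [← cancel_epi (_root_.Formal.modPowπ J (k + 1) M), ← Category.assoc]
      exact (congrArg (· ≫ (Scheme.Modules.pushforward (p k)).map (φ k))
        (HLim.exists_iso_modPow p J hI M hM.1 k).choose_spec.2).trans (hφ k)
    haveI : IsIso (HLim.dd p J hI M hM.1 k ≫ (Scheme.Modules.pushforward (p k)).map (φ k)) := by
      rw [h1]; exact inferInstanceAs (IsIso (Φ.app (op k)).hom)
    exact isIso_of_isIso_push (p k) (φ k) (IsIso.of_isIso_comp_left (HLim.dd p J hI M hM.1 k) _)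
  have hcomm : ∀ k, (ComplSec.pullSys p hp M).toPush k ≫ (Scheme.Modules.pushforward (𝔛.ι k)).map (φ k) =
      φ (k + 1) ≫ 𝔐.toPush k := by
    intro k
    refine PullFSys.hom_ext_eta (p (k + 1)) fun U m => ?_
    refine (CohSys.restrict_bijective (𝔐.F k) (preimage_eq p hp k U).le (preimage_eq p hp k U).ge).1 ?_
    change (𝔐.F k).presheaf.map _ ((φ k).app (𝔛.ι k ⁻¹ᵁ (p (k + 1) ⁻¹ᵁ U))
        (((ComplSec.pullSys p hp M).toPush k).app (p (k + 1) ⁻¹ᵁ U) (CohDelta.Units.eta (p (k + 1)) M U m))) =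
      (𝔐.F k).presheaf.map _ ((𝔐.toPush k).app (p (k + 1) ⁻¹ᵁ U)
        ((φ (k + 1)).app (p (k + 1) ⁻¹ᵁ U) (CohDelta.Units.eta (p (k + 1)) M U m)))
    refine ((φ k).mapPresheaf.naturality_apply (homOfLE (preimage_eq p hp k U).le).op _).symm.trans ?_
    refine Eq.trans ?_ (((congrArg ((T p hp 𝔐 k).app U) (hφe (k + 1) U m)).symm.trans
      (T_app p hp 𝔐 k U _)))
    have h3 : (T p hp 𝔐 k).app U ((a (k + 1)).app U m) = (a k).app U m := congr(($(ha k)).app U m)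
    rw [h3, ← hφe k U m]
    refine congrArg _ ?_
    rw [show ((ComplSec.pullSys p hp M).toPush k).app (p (k + 1) ⁻¹ᵁ U) (CohDelta.Units.eta (p (k + 1)) M U m) =
      _ from toPush_app (ComplSec.pullSys p hp M) k _ _]
    have h4 := ComplSec.res_trans_eta (𝔛.ι k) (p (k + 1)) (p k) (hp k) M U m (p (k + 1) ⁻¹ᵁ U) (p k ⁻¹ᵁ U)
      le_rfl (preimage_eq p hp k U).le le_rfl
    have h5 : ∀ {Z : Scheme.{u}} (N : Z.Modules) (V : Z.Opens) (y : Γ(N, V)),
        N.presheaf.map (homOfLE (le_refl V)).op y = y := fun N V y =>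
      ConcreteCategory.congr_hom (N.presheaf.map_id (op V)) y
    rw [h5, h5] at h4
    exact h4
  refine ⟨PullFSys.realModIso h𝔛 ?_⟩
  haveI := hiso
  have hc : ∀ k, (Scheme.Modules.pullback (𝔛.ι k)).map (φ (k + 1)) ≫ (𝔐.e k).hom =
      ((ComplSec.pullSys p hp M).e k).hom ≫ φ k := fun k => by
    refine ((Scheme.Modules.pullbackPushforwardAdjunction (𝔛.ι k)).homEquiv _ _).injective ?_
    exact (Adjunction.homEquiv_naturality_left _ _ _).trans ((hcomm k).symm.trans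
      (Adjunction.homEquiv_naturality_right _ _ _).symm)
  let Ψ : ComplSec.pullSys p hp M ⟶ 𝔐 := ⟨φ, hc⟩
  exact isoOfApp Ψ fun k => hiso k

end Groth.Agent.H78.FSchBridge.Sys
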